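import Cfsg.Agent.H536.T5.DataA
import Cfsg.Agent.H650.Q5.HNLit

/-!
# The Harada–Norton group: an element which conjugates the centre of a Sylow 5-subgroup into another subgroup of order 5 of it,
checked in the 133-dimensional representation (helper650)

The check is split into three theorems (memory of the kernel): `chkA`, `chkB` compute the packed matrices of `R 95`, `R 24`,
`R 93`, `R 94` (literals of `HNLit`), `chk` starts from these.
-/

set_option autoImplicit false
set_option maxRecDepth 100000

namespace Cfsg.Agent.H650.Q5.HNData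

open Cfsg.Agent.Lib.PackMat Cfsg.Agent.Lib.PackMatGroup Cfsg.Agent.Lib.PackMatMul Cfsg.Agent.HN.RepData
open Cfsg.Agent.HN.Rep (L LG gens rho)
open Cfsg.Agent.HN Cfsg.Agent.H536.T5 Cfsg.Agent.H536.T5.Prog Cfsg.Agent.H536.T5.DataA
open Cfsg.Agent.H650.Q5.HNLit

/-! ### Programs with given results -/

/-- the results with the given indices have the given codes -/
noncomputable def eqV (vs : List (ℕ × ℕ)) (L : List ℕ) : Bool :=
  List.rec true (fun q _ ih => bif Nat.beq (get L q.1) q.2 then ih else false) vs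

/-- run the program, compare the results with given numbers -/
noncomputable def checkV (C : Cfg) (ws : List (ℕ × List ℕ)) (vs : List (ℕ × ℕ)) (L : List ℕ) : Bool :=
  bif okS ws L.length then withM C fun f => runS f ws L fun L => eqV vs L else false

theorem eqV_sound {C : Cfg} {vs : List (ℕ × ℕ)} {LG : List (U C)} {L : List ℕ} (h : List.Forall₂ (CodesR C) LG L)
    (he : eqV vs L = true) (hr : ∀ q ∈ vs, q.1 < L.length) : ∀ q ∈ vs, CodesR C (LG.getD q.1 1) q.2 := by
  induction vs with
  | nil => intro q hq; simp at hq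
  | cons a vs ih =>
    have he' : (bif Nat.beq (get L a.1) a.2 then eqV vs L else false) = true := he
    rcases hb : Nat.beq (get L a.1) a.2 with _ | _
    · rw [hb] at he'; simp at he'
    rw [hb, cond_true] at he'
    intro q hq
    rcases List.mem_cons.mp hq with rfl | hq
    · have h1 := codesR_get h (hr q List.mem_cons_self)
      rwa [Nat.eq_of_beq_eq_true hb] at h1
    · exact ih he' (fun q hq => hr q (List.mem_cons_of_mem _ hq)) q hq

theorem checkV_sound {C : Cfg} (hC : Good C) {LG : List (U C)} {L : List ℕ} (h : List.Forall₂ (CodesR C) LG L)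
    {ws : List (ℕ × List ℕ)} {vs : List (ℕ × ℕ)} (hc : checkV C ws vs L = true)
    (hr : ∀ q ∈ vs, q.1 < ws.length + L.length) : ∀ q ∈ vs, CodesR C ((runG ws LG).getD q.1 1) q.2 := by
  unfold checkV at hc
  rcases h1 : okS ws L.length with _ | _
  · rw [h1] at hc; simp at hc
  rw [h1, cond_true, withM_eq] at hc
  obtain ⟨L', hL', hk⟩ := runS_sound hC h h1 hc
  refine eqV_sound hL' hk fun q hq => ?_
  rw [← hL'.length_eq, runG_length, h.length_eq]
  exact hr q hq

theorem runG_append {G : Type*} [Group G] (p q : List (ℕ × List ℕ)) (l : List G) :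
    runG (p ++ q) l = runG q (runG p l) := by
  induction p generalizing l with
  | nil => rfl
  | cons w p ih => rw [List.cons_append, runG_cons, runG_cons, ih]

theorem rho_getD (ws : List (ℕ × List ℕ)) (l : List Cfsg.Spor.HN) (i : ℕ) :
    rho ((runG ws l).getD i 1) = (runG ws (l.map rho)).getD i 1 := by
  rw [runG_map, List.getD_eq_getElem?_getD, List.getD_eq_getElem?_getD, List.getElem?_map]
  cases (runG ws l)[i]? with
  | none => simp
  | some b => simp

/-! ### The literals -/

/-- the program for `R 95`, `R 24` -/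
def PA : List (ℕ × List ℕ) := [
  (4, [4]),
  (5, [3, 5, 3, 3, 1, 3, 1, 3, 3, 5, 4, 2, 4, 4, 5]),
  (6, [5, 9, 5, 9, 5, 6, 8, 5, 5, 5, 6]),
  (7, [5, 5, 5, 10, 7, 5, 9, 5, 9, 5, 7]),
  (2, [1, 2, 1, 7]),
  (5, [5]),
  (3, [9, 3, 8, 2, 0, 2])]

/-- the program for `R 94`, `R 93` -/
def PB : List (ℕ × List ℕ) := [
  (0, [2, 4, 2, 0, 2, 2, 2, 1, 3, 3, 4, 2, 4, 0, 2, 4, 1]),
  (4, [1, 4, 5, 4, 1, 3, 2, 3, 2, 3, 5, 2, 4, 4, 2, 4, 1, 1, 5, 4, 1, 4, 1, 4, 2, 3, 5, 3, 2, 3])]

theorem chkA : checkV C PA [(2, lit95), (0, lit24)] L = true := by decide +kernel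

theorem chkB : checkV C PB [(0, lit93), (1, lit94)] L = true := by decide +kernel

theorem codA {i M : ℕ} (h : (i, M) ∈ [(2, lit95), (0, lit24)]) : CodesR C (rho ((runG PA gens).getD i 1)) M := by
  rw [rho_getD, Rep.gens_map]
  exact checkV_sound (good_of_check Rep.good) A12Group.codesR chkA (by
    intro q hq
    simp only [List.mem_cons, List.not_mem_nil, or_false] at hq
    rcases hq with rfl | rfl
    · exact (by decide : 2 < PA.length + L.length)
    · exact (by decide : 0 < PA.length + L.length)) (i, M) h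

theorem codB {i M : ℕ} (h : (i, M) ∈ [(0, lit93), (1, lit94)]) : CodesR C (rho ((runG PB gens).getD i 1)) M := by
  rw [rho_getD, Rep.gens_map]
  exact checkV_sound (good_of_check Rep.good) A12Group.codesR chkB (by
    intro q hq
    simp only [List.mem_cons, List.not_mem_nil, or_false] at hq
    rcases hq with rfl | rfl
    · exact (by decide : 0 < PB.length + L.length)
    · exact (by decide : 1 < PB.length + L.length)) (i, M) h

theorem take_getD (i : ℕ) : (runG (prog.take 5) gens).getD i 1 = R (95 + i) := by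
  have h1 : runG prog gens = runG (prog.drop 5) (runG (prog.take 5) gens) := by
    rw [← runG_append, List.take_append_drop]
  have h2 : (prog.drop 5).length = 95 := by decide
  unfold R
  rw [h1, ← h2, runG_getD_add]

theorem PA_eq : PA = prog.take 5 ++ [(5, [5]), (3, [9, 3, 8, 2, 0, 2])] := by decide

theorem s_t : R 40 = R 100 * R 100 := st 40 100 [100] (by decide) (by decide)

theorem A_two : (runG PA gens).getD 2 1 = R 95 := by
  rw [PA_eq, runG_append]
  exact take_getD 0

theorem A_zero : (runG PA gens).getD 0 1 = R 24 := by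
  rw [PA_eq, runG_append, s_v, s_t]
  generalize hB : runG (prog.take 5) gens = B
  have h : ∀ i, B.getD i 1 = R (95 + i) := fun i => hB ▸ take_getD i
  rw [runG_cons, runG_cons, runG_nil, List.getD_cons_zero]
  simp only [evG_cons, evG_nil, List.getD_cons_zero, List.getD_cons_succ, h, mul_one]
  simp only [mul_assoc]

/-- the word of `R 93` -/
def w93 : List ℕ := [3, 0, 3, 4, 3, 0, 2, 1, 2, 1, 2, 4, 1, 3, 3, 1, 3, 0, 0, 4, 3, 0, 3, 0, 3, 1, 2, 4, 2, 1, 2]

theorem B_one : (runG PB gens).getD 1 1 = R 94 := by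
  rw [v_z]
  rfl

theorem B_zero : (runG PB gens).getD 0 1 = R 93 := by
  rw [sw 93 w93 (by decide) (by decide)]
  exact evG_shift (LG := gens) (F := evG gens [0, 2, 4, 2, 0, 2, 2, 2, 1, 3, 3, 4, 2, 4, 0, 2, 4, 1] :: gens) (n := 1)
    (fun c => List.getD_cons_succ) w93

theorem c95 : CodesR C (rho (R 95)) lit95 := by
  rw [← A_two]
  exact codA List.mem_cons_self

theorem c24 : CodesR C (rho (R 24)) lit24 := by
  rw [← A_zero]
  exact codA (List.mem_cons_of_mem _ List.mem_cons_self)

theorem c93 : CodesR C (rho (R 93)) lit93 := by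
  rw [← B_zero]
  exact codB List.mem_cons_self

theorem c94 : CodesR C (rho (R 94)) lit94 := by
  rw [← B_one]
  exact codB (List.mem_cons_of_mem _ List.mem_cons_self)

/-! ### The element -/

/-- the elements of the second program -/
noncomputable def genL : List Cfsg.Spor.HN := R 93 :: R 94 :: R 95 :: R 24 :: gens

/-- their packed matrices -/
def codL : List ℕ := lit93 :: lit94 :: lit95 :: lit24 :: L

/-- the second program -/
def PF : List (ℕ × List ℕ) := [
  (2, [2]),
  (0, [0]),
  (2, [2]),
  (0, [0]),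
  (6, [4, 2, 0]),
  (0, [0]),
  (0, [0]),
  (9, [2, 5, 0]),
  (0, [0]),
  (0, [0]),
  (12, [2, 8, 0]),
  (15, [15]),
  (18, [18, 18, 16, 16]),
  (0, [21, 19, 24, 16, 23, 20, 22]),
  (0, [0]),
  (0, [0]),
  (0, [1, 2]),
  (27, [24, 26, 0, 4, 5, 0, 4, 25, 23, 28]),
  (0, [7]),
  (0, [0]),
  (0, [0, 1]),
  (0, [22]),
  (23, [12, 21, 24, 1])]

theorem chk : checkS C PF [(1, 0)] [] codL = true := by decide +kernel

/-- the results -/
noncomputable def F (i : ℕ) : Cfsg.Spor.HN := (runG PF genL).getD i 1

theorem codes_LL : List.Forall₂ (CodesR C) (genL.map rho) codL := by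
  unfold genL codL
  simp only [List.map_cons, Rep.gens_map]
  exact .cons c93 (.cons c94 (.cons c95 (.cons c24 A12Group.codesR)))

theorem sound [IsSimpleGroup Cfsg.Spor.HN] : F 1 = F 0 :=
  A12Group.rho_injective (by
    unfold F
    rw [rho_getD, rho_getD]
    exact (checkS_sound (good_of_check Rep.good) codes_LL chk (by
      intro q hq
      simp only [List.append_nil, List.mem_cons, List.not_mem_nil, or_false] at hq
      subst hq
      exact (by decide : 1 < PF.length + codL.length ∧ 0 < PF.length + codL.length))).1 (1, 0) List.mem_cons_self)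

theorem F_add (k : ℕ) : F (23 + k) = genL.getD k 1 := runG_getD_add PF genL k

theorem F23 : F 23 = R 93 := F_add 0
theorem F24 : F 24 = R 94 := F_add 1
theorem F25 : F 25 = R 95 := F_add 2

theorem F_two (k i j : ℕ) (hk : k < PF.length) (h : wordAt PF k = [i, j]) : F k = F i * F j := by
  have e : F k = evG (runG PF genL) [i, j] := runG_word PF genL hk h
  rw [e, evG_cons, evG_cons, evG_nil, mul_one]
  rfl

theorem F_four (k i j l n : ℕ) (hk : k < PF.length) (h : wordAt PF k = [i, j, l, n]) :
    F k = F i * F j * F l * F n := by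
  have e : F k = evG (runG PF genL) [i, j, l, n] := runG_word PF genL hk h
  rw [e, evG_cons, evG_cons, evG_cons, evG_cons, evG_nil, mul_one, mul_assoc, mul_assoc]
  rfl

theorem F22 : F 22 = R 92 := by rw [F_two 22 25 25 (by decide) (by decide), F25, s_a2]
theorem F21 : F 21 = R 91 := by rw [F_two 21 22 22 (by decide) (by decide), F22, s_aI]
theorem F20 : F 20 = R 89 := by rw [F_two 20 23 23 (by decide) (by decide), F23, s_n4_2]
theorem F19 : F 19 = R 88 := by rw [F_two 19 20 20 (by decide) (by decide), F20, s_n4I]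
theorem F18 : F 18 = R 86 := by rw [F_four 18 25 23 21 19 (by decide) (by decide), F25, F23, F21, F19, s_n3]
theorem F17 : F 17 = R 85 := by rw [F_two 17 18 18 (by decide) (by decide), F18, s_n3_2]
theorem F16 : F 16 = R 84 := by rw [F_two 16 17 17 (by decide) (by decide), F17, s_n3I]
theorem F15 : F 15 = R 82 := by rw [F_four 15 25 18 21 16 (by decide) (by decide), F25, F18, F21, F16, s_n2]
theorem F14 : F 14 = R 81 := by rw [F_two 14 15 15 (by decide) (by decide), F15, s_n2_2]
theorem F13 : F 13 = R 80 := by rw [F_two 13 14 14 (by decide) (by decide), F14, s_n2I]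

theorem F_one : F 1 = F 2 * R 94 := by rw [F_two 1 2 24 (by decide) (by decide), F24]

theorem F_zero : F 0 = R 94 * (R 80 * (R 92 * (R 95 * F 2))) := by
  have e : F 0 = evG (runG PF genL) [24, 13, 22, 25, 2] := runG_word PF genL (by decide) (by decide)
  rw [e, evG_cons, evG_cons, evG_cons, evG_cons, evG_cons, evG_nil, mul_one, ← F24, ← F13, ← F22, ← F25]
  rfl

/-- **the element** -/
theorem exists_conj [IsSimpleGroup Cfsg.Spor.HN] : ∃ g : Cfsg.Spor.HN,
    g * R 94 = R 94 * R 82 ^ 4 * R 95 ^ 3 * g := by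
  refine ⟨F 2, ?_⟩
  have h := sound
  rw [F_one, F_zero] at h
  rw [h, ← pw_n2.1, s_a2, pow_succ, pow_two]
  simp only [mul_assoc]

end Cfsg.Agent.H650.Q5.HNData
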