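import Cfsg.Agent.H650.Q5.HomU
import Cfsg.Agent.H650.Q5.HNData
import Cfsg.Agent.H536.T5.FiveC
import Cfsg.Agent.S1701

/-!
# S5211, block q = 5: the local data of `HN` (helper650)

`loc_of_dat`: the local data from the relations of `H536/T5/Five.lean` and an element `g` with
`g z g⁻¹ = z n2⁴ a³`; `loc_HN`.
-/

set_option autoImplicit false

namespace Cfsg.Agent.H650.Q5

open Cfsg Cfsg.Agent.H24.Q5 Cfsg.Agent.H779.G2 Subgroup

theorem rel_of_dat {G : Type*} [Group G] {z n1 n2 n3 n4 a t W v u : G}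
    (D : H536.T5.Five.Dat z n1 n2 n3 n4 a t W v u) : Rel z n1 n2 n3 n4 a :=
  ⟨D.z5, D.a5, D.p1, D.p2, D.p3, D.p4, D.zn1, D.zn2, D.zn3, D.zn4, D.za, D.n12, D.n13, D.n14, D.n23, D.n24, D.n34,
    D.an1, D.an2, D.an3, D.an4⟩

theorem mem_A5 {u : U5} (h : u.a = 0) : u ∈ A5 := h

theorem A5_le : A5 ≤ WQ uz u1 u2 u3 u4 := fun _ h => mem_WQ_of h

/-- **the local data from the relations** -/
theorem loc_of_dat {G : Type} [Group G] [Finite G] {z n1 n2 n3 n4 a t W v u g : G}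
    (D : H536.T5.Five.Dat z n1 n2 n3 n4 a t W v u) (hg : g * z = z * n2 ^ 4 * a ^ 3 * g) (h7 : ¬ 5 ^ 7 ∣ Nat.card G) :
    ∃ (T : Sylow 5 G) (e : (T : Subgroup G) ≃* U5), Loc G T e ∧ n2 ∈ QG T e := by
  obtain ⟨φ, f0, f1, f2, f3, f4, f5⟩ := exists_hom (rel_of_dat D)
  have hcU : Nat.card U5 = 5 ^ 6 := by rw [GU.card_eq, Nat.card_zmod]
  -- injectivity
  have hle : H536.T5.Five.Dat.Syl z n1 n2 n3 n4 a ≤ φ.range := by
    unfold H536.T5.Five.Dat.Syl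
    simp only [sup_le_iff, zpowers_le]
    exact ⟨⟨⟨⟨⟨⟨_, f0⟩, ⟨_, f1⟩⟩, ⟨_, f2⟩⟩, ⟨_, f3⟩⟩, ⟨_, f4⟩⟩, ⟨_, f5⟩⟩
  have hd : 5 ^ 6 ∣ Nat.card φ.range := D.card_Syl.trans (Subgroup.card_dvd_of_le hle)
  have hcR : Nat.card φ.range = 5 ^ 6 := by
    refine Nat.dvd_antisymm ?_ hd
    rw [← hcU]
    exact Subgroup.card_range_dvd φ
  have hinj : Function.Injective φ := by
    have hb : Function.Bijective φ.rangeRestrict := by
      rw [Nat.bijective_iff_surjective_and_card]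
      exact ⟨φ.rangeRestrict_surjective, by rw [hcU, hcR]⟩
    intro x y hxy
    exact hb.1 (Subtype.ext hxy)
  -- the Sylow subgroup
  have hp : IsPGroup 5 φ.range := IsPGroup.of_card hcR
  have hidx : ¬ 5 ∣ φ.range.index := by
    intro hdv
    apply h7
    rw [← φ.range.card_mul_index, hcR, show (5 : ℕ) ^ 7 = 5 ^ 6 * 5 by norm_num]
    exact Nat.mul_dvd_mul_left _ hdv
  let T : Sylow 5 G := hp.toSylow hidx
  let e : (T : Subgroup G) ≃* U5 := (MonoidHom.ofInjective hinj).symm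
  have hes : ∀ x : U5, ((e.symm x : (T : Subgroup G)) : G) = φ x := fun x => rfl
  have heq : ∀ x : (T : Subgroup G), (x : G) = φ (e x) := by
    intro x
    rw [← hes, e.symm_apply_apply]
  have hQ : ∀ x ∈ A5, t * φ x * t⁻¹ ∈ A5.map φ := by
    have h1 : A5 ≤ (A5.map φ).comap ((MulAut.conj t).toMonoidHom.comp φ) := by
      refine A5_le.trans (WQ_le ?_ ?_ ?_ ?_ ?_)
      · show t * φ uz * t⁻¹ ∈ A5.map φ
        rw [f0, ← D.zt, mul_inv_cancel_right, ← f0]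
        exact mem_map_of_mem _ rfl
      · show t * φ u1 * t⁻¹ ∈ A5.map φ
        rw [f1, D.tn1, mul_inv_cancel_right, ← f2, ← f3, ← f0, ← map_pow, ← map_pow, ← map_mul, ← map_mul]
        exact mem_map_of_mem _ (mem_A5 (by decide))
      · show t * φ u2 * t⁻¹ ∈ A5.map φ
        rw [f2, D.tn2, mul_inv_cancel_right, ← f1, ← f3, ← f4, ← f0, ← map_pow, ← map_pow, ← map_pow, ← map_mul,
          ← map_mul, ← map_mul]
        exact mem_map_of_mem _ (mem_A5 (by decide))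
      · show t * φ u3 * t⁻¹ ∈ A5.map φ
        rw [f3, D.tn3, mul_inv_cancel_right, ← f3, ← f4, ← f0, ← map_pow, ← map_pow, ← map_pow, ← map_mul, ← map_mul]
        exact mem_map_of_mem _ (mem_A5 (by decide))
      · show t * φ u4 * t⁻¹ ∈ A5.map φ
        rw [f4, D.tn4, mul_inv_cancel_right, ← f4]
        exact mem_map_of_mem _ rfl
    exact fun x hx => h1 hx
  have ha : ∀ x : (T : Subgroup G), e x ∈ A5 → ∃ y : (T : Subgroup G), (y : G) = t * x * t⁻¹ ∧ e y ∈ A5 := by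
    intro x hx
    obtain ⟨w, hw, hw'⟩ := hQ _ hx
    refine ⟨e.symm w, ?_, ?_⟩
    · rw [hes, hw', ← heq]
    · rw [e.apply_symm_apply]
      exact hw
  have ht1 : ((e.symm (u2 * u3 ^ 4 * uz ^ 3) : (T : Subgroup G)) : G) =
      t * ((e.symm u1 : (T : Subgroup G)) : G) * t⁻¹ := by
    rw [hes, hes, f1, D.tn1, mul_inv_cancel_right, map_mul, map_mul, map_pow, map_pow, f2, f3, f0]
  refine ⟨T, e, ⟨⟨t, ha, e.symm u1, e.symm (u2 * u3 ^ 4 * uz ^ 3), ?_, ht1, ?_⟩,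
    ⟨t, ha, e.symm u1, e.symm (u2 * u3 ^ 4 * uz ^ 3), ?_, ht1, ?_⟩,
    ⟨g, e.symm uz, e.symm (uz * u2 ^ 4 * ua ^ 3), ?_, ?_, ?_⟩⟩, ?_⟩
  · rw [e.apply_symm_apply]
    exact ⟨rfl, rfl, rfl, rfl⟩
  · rw [e.apply_symm_apply]
    rintro ⟨-, -, h, -⟩
    revert h
    decide
  · rw [e.apply_symm_apply]
    exact ⟨rfl, rfl, rfl⟩
  · rw [e.apply_symm_apply]
    rintro ⟨-, -, h⟩
    revert h
    decide
  · rw [e.apply_symm_apply]
    exact ⟨rfl, rfl, rfl, rfl, rfl⟩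
  · rw [hes, hes, f0, hg, mul_inv_cancel_right, map_mul, map_mul, map_pow, map_pow, f0, f2, f5]
  · rw [e.apply_symm_apply]
    rintro ⟨h, -⟩
    revert h
    decide
  · refine ⟨e.symm u2, ?_, ?_⟩
    · show e (e.symm u2) ∈ A5
      rw [e.apply_symm_apply]
      rfl
    · show ((e.symm u2 : (T : Subgroup G)) : G) = n2
      rw [hes, f2]

/-- **the local data of `HN`** -/
theorem loc_HN : ∃ (T : Sylow 5 Cfsg.Spor.HN) (e : (T : Subgroup Cfsg.Spor.HN) ≃* U5),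
    Loc Cfsg.Spor.HN T e ∧ H536.T5.DataA.R 82 ∈ QG T e := by
  have hs : IsSimpleGroup Cfsg.Spor.HN := Cfsg.Agent.S1701.result.1
  have hc : Nat.card Cfsg.Spor.HN = 273030912000000 := Cfsg.Agent.S1701.result.2
  have hfin : Finite Cfsg.Spor.HN := Nat.finite_of_card_ne_zero (by rw [hc]; norm_num)
  obtain ⟨g, hg⟩ := HNData.exists_conj
  exact loc_of_dat H536.T5.DataA.dat hg (by rw [hc]; norm_num)

end Cfsg.Agent.H650.Q5
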