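import Cfsg.Agent.H24.Q5.Fus

/-!
# S5211, block q = 5: homomorphisms from `U5` given by the relations of a Sylow 5-subgroup of `HN` (helper650)

`Rel z n1 n2 n3 n4 a`: relations between six elements of a group; they define a group of order at most `5⁶`
(`card_le`) and are satisfied by elements `ν …` of `U5` which generate `U5`; `exists_hom`.
-/

set_option autoImplicit false

namespace Cfsg.Agent.H650.Q5

open Cfsg Cfsg.Agent.H24.Q5 Cfsg.Agent.H779.G2 Subgroup Pointwise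

/-- the relations -/
structure Rel {G : Type*} [Group G] (z n1 n2 n3 n4 a : G) : Prop where
  z5 : z ^ 5 = 1
  a5 : a ^ 5 = 1
  p1 : n1 ^ 5 = 1
  p2 : n2 ^ 5 = 1
  p3 : n3 ^ 5 = 1
  p4 : n4 ^ 5 = 1
  zn1 : z * n1 = n1 * z
  zn2 : z * n2 = n2 * z
  zn3 : z * n3 = n3 * z
  zn4 : z * n4 = n4 * z
  za : z * a = a * z
  n12 : n1 * n2 = n2 * n1
  n13 : n1 * n3 = n3 * n1
  n14 : n1 * n4 = z ^ 2 * n4 * n1
  n23 : n2 * n3 = z ^ 3 * n3 * n2
  n24 : n2 * n4 = z ^ 2 * n4 * n2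
  n34 : n3 * n4 = n4 * n3
  an1 : a * n1 = n1 * a
  an2 : a * n2 = n1 * n2 * a
  an3 : a * n3 = n2 * n3 * a
  an4 : a * n4 = n3 * n4 * a

section gen

variable {G : Type*} [Group G]

/-- adding an element of order 5 normalizing the subgroup -/
theorem card_step [Finite G] {K : Subgroup G} {x : G} {n : ℕ} (hx : x ^ 5 = 1) (hn : K ≤ K.comap (MulAut.conj x).toMonoidHom)
    (hK : Nat.card K ≤ n) : Nat.card (K ⊔ zpowers x : Subgroup G) ≤ n * 5 := by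
  have hnp : ∀ m : ℕ, ∀ k ∈ K, x ^ m * k * (x ^ m)⁻¹ ∈ K := by
    intro m
    induction m with
    | zero => intro k hk; simpa using hk
    | succ m ih =>
      intro k hk
      have e : x ^ (m + 1) * k * (x ^ (m + 1))⁻¹ = x * (x ^ m * k * (x ^ m)⁻¹) * x⁻¹ := by
        rw [pow_succ']; group
      rw [e]
      exact hn (ih k hk)
  have hinv : x ^ 4 = x⁻¹ := by
    rw [eq_inv_iff_mul_eq_one, ← pow_succ, hx]
  have hxN : zpowers x ≤ normalizer (K : Set G) := by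
    rw [zpowers_le, mem_normalizer_iff]
    intro k
    refine ⟨fun hk => hn hk, fun hk => ?_⟩
    have h1 := hnp 4 _ hk
    rw [hinv] at h1
    have e : x⁻¹ * (x * k * x⁻¹) * x⁻¹⁻¹ = k := by group
    rwa [e] at h1
  have h1 : ((K ⊔ zpowers x : Subgroup G) : Set G) = (K : Set G) * (zpowers x : Set G) :=
    coe_mul_of_right_le_normalizer_left K (zpowers x) hxN
  have h2 : Nat.card (K ⊔ zpowers x : Subgroup G) ≤ Nat.card K * Nat.card (zpowers x) := by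
    have h3 := Set.natCard_mul_le (s := (K : Set G)) (t := (zpowers x : Set G))
    rw [← h1] at h3
    exact h3
  have h4 : Nat.card (zpowers x) ≤ 5 := by
    rw [Nat.card_zpowers]
    exact Nat.le_of_dvd (by norm_num) (orderOf_dvd_of_pow_eq_one hx)
  exact h2.trans (Nat.mul_le_mul hK h4)

variable {z n1 n2 n3 n4 a : G}

variable (z n1 n2 n3 n4 a) in
/-- the subgroup -/
def W : Subgroup G := zpowers z ⊔ zpowers n1 ⊔ zpowers n2 ⊔ zpowers n3 ⊔ zpowers n4 ⊔ zpowers a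

variable (z n1 n2 n3 n4) in
/-- the subgroup without `a` -/
def WQ : Subgroup G := zpowers z ⊔ zpowers n1 ⊔ zpowers n2 ⊔ zpowers n3 ⊔ zpowers n4

theorem z_mem_WQ : z ∈ WQ z n1 n2 n3 n4 :=
  mem_sup_left (mem_sup_left (mem_sup_left (mem_sup_left (mem_zpowers z))))
theorem n1_mem_WQ : n1 ∈ WQ z n1 n2 n3 n4 :=
  mem_sup_left (mem_sup_left (mem_sup_left (mem_sup_right (mem_zpowers n1))))
theorem n2_mem_WQ : n2 ∈ WQ z n1 n2 n3 n4 := mem_sup_left (mem_sup_left (mem_sup_right (mem_zpowers n2)))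
theorem n3_mem_WQ : n3 ∈ WQ z n1 n2 n3 n4 := mem_sup_left (mem_sup_right (mem_zpowers n3))
theorem n4_mem_WQ : n4 ∈ WQ z n1 n2 n3 n4 := mem_sup_right (mem_zpowers n4)

theorem WQ_le {K : Subgroup G} (h0 : z ∈ K) (h1 : n1 ∈ K) (h2 : n2 ∈ K) (h3 : n3 ∈ K) (h4 : n4 ∈ K) :
    WQ z n1 n2 n3 n4 ≤ K := by
  unfold WQ
  simp only [sup_le_iff, zpowers_le]
  exact ⟨⟨⟨⟨h0, h1⟩, h2⟩, h3⟩, h4⟩

theorem W_eq : W z n1 n2 n3 n4 a = WQ z n1 n2 n3 n4 ⊔ zpowers a := rfl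

theorem WQ_le_W : WQ z n1 n2 n3 n4 ≤ W z n1 n2 n3 n4 a := le_sup_left

theorem a_mem_W : a ∈ W z n1 n2 n3 n4 a := mem_sup_right (mem_zpowers a)

theorem W_le {K : Subgroup G} (h0 : z ∈ K) (h1 : n1 ∈ K) (h2 : n2 ∈ K) (h3 : n3 ∈ K) (h4 : n4 ∈ K) (h5 : a ∈ K) :
    W z n1 n2 n3 n4 a ≤ K := by
  rw [W_eq, sup_le_iff, zpowers_le]
  exact ⟨WQ_le h0 h1 h2 h3 h4, h5⟩

theorem conj_of {x y w : G} (h : x * y = w * x) : (MulAut.conj x).toMonoidHom y = w := by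
  show x * y * x⁻¹ = w
  rw [h, mul_inv_cancel_right]

/-- **the order** -/
theorem Rel.card_le [Finite G] (h : Rel z n1 n2 n3 n4 a) : Nat.card (W z n1 n2 n3 n4 a) ≤ 5 ^ 6 := by
  have k0 : Nat.card (zpowers z) ≤ 5 := by
    rw [Nat.card_zpowers]
    exact Nat.le_of_dvd (by norm_num) (orderOf_dvd_of_pow_eq_one h.z5)
  have z2 : ∀ m : ℕ, ∀ K : Subgroup G, z ∈ K → ∀ y ∈ K, z ^ m * y ∈ K := fun m K hz y hy => K.mul_mem (K.pow_mem hz m) hy
  -- conjugates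
  have c1z := conj_of h.zn1.symm
  have c2z := conj_of h.zn2.symm
  have c3z := conj_of h.zn3.symm
  have c4z := conj_of h.zn4.symm
  have caz := conj_of h.za.symm
  have c21 := conj_of h.n12.symm
  have c31 := conj_of h.n13.symm
  have c32 : (MulAut.conj n3).toMonoidHom n2 = z ^ 2 * n2 := by
    apply conj_of
    have e : z ^ 2 * (n2 * n3) = z ^ 5 * (n3 * n2) := by rw [h.n23]; simp only [pow_succ, pow_zero, one_mul, mul_assoc]
    rw [h.z5, one_mul] at e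
    rw [← e, mul_assoc]
  have c41 : (MulAut.conj n4).toMonoidHom n1 = z ^ 3 * n1 := by
    apply conj_of
    have e : z ^ 3 * (n1 * n4) = z ^ 5 * (n4 * n1) := by rw [h.n14]; simp only [pow_succ, pow_zero, one_mul, mul_assoc]
    rw [h.z5, one_mul] at e
    rw [← e, mul_assoc]
  have c42 : (MulAut.conj n4).toMonoidHom n2 = z ^ 3 * n2 := by
    apply conj_of
    have e : z ^ 3 * (n2 * n4) = z ^ 5 * (n4 * n2) := by rw [h.n24]; simp only [pow_succ, pow_zero, one_mul, mul_assoc]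
    rw [h.z5, one_mul] at e
    rw [← e, mul_assoc]
  have c43 := conj_of h.n34.symm
  have ca1 := conj_of h.an1
  have ca2 := conj_of h.an2
  have ca3 := conj_of h.an3
  have ca4 := conj_of h.an4
  have k1 : Nat.card (zpowers z ⊔ zpowers n1 : Subgroup G) ≤ 5 * 5 := by
    refine card_step h.p1 ?_ k0
    rw [zpowers_le, mem_comap, c1z]
    exact mem_zpowers z
  have k2 : Nat.card (zpowers z ⊔ zpowers n1 ⊔ zpowers n2 : Subgroup G) ≤ 5 * 5 * 5 := by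
    refine card_step h.p2 ?_ k1
    rw [sup_le_iff, zpowers_le, zpowers_le, mem_comap, mem_comap, c2z, c21]
    exact ⟨mem_sup_left (mem_zpowers z), mem_sup_right (mem_zpowers n1)⟩
  have k3 : Nat.card (zpowers z ⊔ zpowers n1 ⊔ zpowers n2 ⊔ zpowers n3 : Subgroup G) ≤ 5 * 5 * 5 * 5 := by
    refine card_step h.p3 ?_ k2
    rw [sup_le_iff, sup_le_iff, zpowers_le, zpowers_le, zpowers_le, mem_comap, mem_comap, mem_comap, c3z, c31, c32]
    have hz : z ∈ zpowers z ⊔ zpowers n1 ⊔ zpowers n2 := mem_sup_left (mem_sup_left (mem_zpowers z))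
    exact ⟨⟨hz, mem_sup_left (mem_sup_right (mem_zpowers n1))⟩, z2 _ _ hz _ (mem_sup_right (mem_zpowers n2))⟩
  have k4 : Nat.card (WQ z n1 n2 n3 n4 : Subgroup G) ≤ 5 * 5 * 5 * 5 * 5 := by
    refine card_step h.p4 ?_ k3
    have hz : z ∈ zpowers z ⊔ zpowers n1 ⊔ zpowers n2 ⊔ zpowers n3 :=
      mem_sup_left (mem_sup_left (mem_sup_left (mem_zpowers z)))
    rw [sup_le_iff, sup_le_iff, sup_le_iff, zpowers_le, zpowers_le, zpowers_le, zpowers_le, mem_comap, mem_comap,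
      mem_comap, mem_comap, c4z, c41, c42, c43]
    exact ⟨⟨⟨hz, z2 _ _ hz _ (mem_sup_left (mem_sup_left (mem_sup_right (mem_zpowers n1))))⟩,
      z2 _ _ hz _ (mem_sup_left (mem_sup_right (mem_zpowers n2)))⟩, mem_sup_right (mem_zpowers n3)⟩
  have k5 : Nat.card (W z n1 n2 n3 n4 a : Subgroup G) ≤ 5 * 5 * 5 * 5 * 5 * 5 := by
    refine card_step h.a5 ?_ k4
    refine WQ_le ?_ ?_ ?_ ?_ ?_
    · rw [mem_comap, caz]; exact z_mem_WQ
    · rw [mem_comap, ca1]; exact n1_mem_WQ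
    · rw [mem_comap, ca2]; exact mul_mem n1_mem_WQ n2_mem_WQ
    · rw [mem_comap, ca3]; exact mul_mem n2_mem_WQ n3_mem_WQ
    · rw [mem_comap, ca4]; exact mul_mem n3_mem_WQ n4_mem_WQ
  exact k5.trans (by norm_num)

/-- pairs -/
theorem Rel.prod {H : Type*} [Group H] {z' n1' n2' n3' n4' a' : H} (h : Rel z n1 n2 n3 n4 a)
    (h' : Rel z' n1' n2' n3' n4' a') : Rel (z, z') (n1, n1') (n2, n2') (n3, n3') (n4, n4') (a, a') where
  z5 := Prod.ext h.z5 h'.z5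
  a5 := Prod.ext h.a5 h'.a5
  p1 := Prod.ext h.p1 h'.p1
  p2 := Prod.ext h.p2 h'.p2
  p3 := Prod.ext h.p3 h'.p3
  p4 := Prod.ext h.p4 h'.p4
  zn1 := Prod.ext h.zn1 h'.zn1
  zn2 := Prod.ext h.zn2 h'.zn2
  zn3 := Prod.ext h.zn3 h'.zn3
  zn4 := Prod.ext h.zn4 h'.zn4
  za := Prod.ext h.za h'.za
  n12 := Prod.ext h.n12 h'.n12
  n13 := Prod.ext h.n13 h'.n13
  n14 := Prod.ext h.n14 h'.n14
  n23 := Prod.ext h.n23 h'.n23
  n24 := Prod.ext h.n24 h'.n24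
  n34 := Prod.ext h.n34 h'.n34
  an1 := Prod.ext h.an1 h'.an1
  an2 := Prod.ext h.an2 h'.an2
  an3 := Prod.ext h.an3 h'.an3
  an4 := Prod.ext h.an4 h'.an4

end gen

/-! ### The elements of `U5` -/

def uz : U5 := ⟨0, 0, 0, 0, 0, 2⟩
def u1 : U5 := ⟨0, 0, 0, 0, 1, 0⟩
def u2 : U5 := ⟨0, 0, 0, 2, 1, 2⟩
def u3 : U5 := ⟨0, 0, 1, 1, 3, 4⟩
def u4 : U5 := ⟨0, 1, 0, 4, 2, 2⟩
def ua : U5 := ⟨4, 0, 0, 0, 0, 0⟩

theorem relU : Rel uz u1 u2 u3 u4 ua := by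
  constructor <;> (apply GU.ext <;> decide)

/-! `U5` is generated by these elements -/

def xa : U5 := ⟨1, 0, 0, 0, 0, 0⟩
def xb : U5 := ⟨0, 1, 0, 0, 0, 0⟩
def xc : U5 := ⟨0, 0, 1, 0, 0, 0⟩
def xd : U5 := ⟨0, 0, 0, 1, 0, 0⟩
def xe : U5 := ⟨0, 0, 0, 0, 1, 0⟩
def xf : U5 := ⟨0, 0, 0, 0, 0, 1⟩

theorem xa_eq : xa = ua ^ 4 := by apply GU.ext <;> decide
theorem xb_eq : xb = u2 ^ 3 * u4 := by apply GU.ext <;> decide
theorem xc_eq : xc = u2 ^ 2 * u3 := by apply GU.ext <;> decide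
theorem xd_eq : xd = u1 ^ 2 * u2 ^ 3 * uz ^ 2 := by apply GU.ext <;> decide
theorem xe_eq : xe = u1 := rfl
theorem xf_eq : xf = uz ^ 3 := by apply GU.ext <;> decide

theorem xa_pow (n : ℕ) : xa ^ n = ⟨n, 0, 0, 0, 0, 0⟩ := by
  induction n with
  | zero => rw [pow_zero]; ext <;> simp
  | succ n ih => rw [pow_succ, ih]; ext <;> simp [xa]
theorem xb_pow (n : ℕ) : xb ^ n = ⟨0, n, 0, 0, 0, 0⟩ := by
  induction n with
  | zero => rw [pow_zero]; ext <;> simp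
  | succ n ih => rw [pow_succ, ih]; ext <;> simp [xb]
theorem xc_pow (n : ℕ) : xc ^ n = ⟨0, 0, n, 0, 0, 0⟩ := by
  induction n with
  | zero => rw [pow_zero]; ext <;> simp
  | succ n ih => rw [pow_succ, ih]; ext <;> simp [xc]
theorem xd_pow (n : ℕ) : xd ^ n = ⟨0, 0, 0, n, 0, 0⟩ := by
  induction n with
  | zero => rw [pow_zero]; ext <;> simp
  | succ n ih => rw [pow_succ, ih]; ext <;> simp [xd]
theorem xe_pow (n : ℕ) : xe ^ n = ⟨0, 0, 0, 0, n, 0⟩ := by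
  induction n with
  | zero => rw [pow_zero]; ext <;> simp
  | succ n ih => rw [pow_succ, ih]; ext <;> simp [xe]
theorem xf_pow (n : ℕ) : xf ^ n = ⟨0, 0, 0, 0, 0, n⟩ := by
  induction n with
  | zero => rw [pow_zero]; ext <;> simp
  | succ n ih => rw [pow_succ, ih]; ext <;> simp [xf]

theorem eq_prod (u : U5) :
    u = xa ^ u.a.val * (xb ^ u.b.val * xc ^ u.c.val * xd ^ u.d.val * xe ^ u.e.val * xf ^ u.f.val) := by
  rw [xa_pow, xb_pow, xc_pow, xd_pow, xe_pow, xf_pow]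
  ext <;> simp

theorem mem_WQ_of {u : U5} (h : u ∈ A5) : u ∈ WQ uz u1 u2 u3 u4 := by
  have h0 : u.a = 0 := h
  rw [eq_prod u, h0, xb_eq, xc_eq, xd_eq, xe_eq, xf_eq]
  simp only [ZMod.val_zero, pow_zero, one_mul]
  have k0 : uz ∈ WQ uz u1 u2 u3 u4 := z_mem_WQ
  have k1 : u1 ∈ WQ uz u1 u2 u3 u4 := n1_mem_WQ
  have k2 : u2 ∈ WQ uz u1 u2 u3 u4 := n2_mem_WQ
  have k3 : u3 ∈ WQ uz u1 u2 u3 u4 := n3_mem_WQ
  have k4 : u4 ∈ WQ uz u1 u2 u3 u4 := n4_mem_WQ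
  exact mul_mem (mul_mem (mul_mem (mul_mem (pow_mem (mul_mem (pow_mem k2 _) k4) _) (pow_mem (mul_mem (pow_mem k2 _) k3) _))
    (pow_mem (mul_mem (mul_mem (pow_mem k1 _) (pow_mem k2 _)) (pow_mem k0 _)) _)) (pow_mem k1 _)) (pow_mem (pow_mem k0 _) _)

theorem W_eq_top : W uz u1 u2 u3 u4 ua = ⊤ := by
  rw [eq_top_iff]
  rintro u -
  rw [eq_prod u]
  refine mul_mem (pow_mem (xa_eq ▸ pow_mem a_mem_W _) _) ?_
  apply WQ_le_W
  apply mem_WQ_of
  rw [xb_pow, xc_pow, xd_pow, xe_pow, xf_pow]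
  show _ = _
  simp

/-- **the homomorphism given by the relations** -/
theorem exists_hom {G : Type*} [Group G] [Finite G] {z n1 n2 n3 n4 a : G} (h : Rel z n1 n2 n3 n4 a) :
    ∃ φ : U5 →* G, φ uz = z ∧ φ u1 = n1 ∧ φ u2 = n2 ∧ φ u3 = n3 ∧ φ u4 = n4 ∧ φ ua = a := by
  have hR := relU.prod h
  set V : Subgroup (U5 × G) := W (uz, z) (u1, n1) (u2, n2) (u3, n3) (u4, n4) (ua, a) with hV
  have hle : Nat.card V ≤ 5 ^ 6 := hR.card_le
  have m0 : (uz, z) ∈ V := WQ_le_W z_mem_WQ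
  have m1 : (u1, n1) ∈ V := WQ_le_W n1_mem_WQ
  have m2 : (u2, n2) ∈ V := WQ_le_W n2_mem_WQ
  have m3 : (u3, n3) ∈ V := WQ_le_W n3_mem_WQ
  have m4 : (u4, n4) ∈ V := WQ_le_W n4_mem_WQ
  have m5 : (ua, a) ∈ V := a_mem_W
  let f : V →* U5 := (MonoidHom.fst U5 G).comp V.subtype
  have hs : Function.Surjective f := by
    rw [← MonoidHom.range_eq_top, eq_top_iff, ← W_eq_top]
    exact W_le ⟨⟨_, m0⟩, rfl⟩ ⟨⟨_, m1⟩, rfl⟩ ⟨⟨_, m2⟩, rfl⟩ ⟨⟨_, m3⟩, rfl⟩ ⟨⟨_, m4⟩, rfl⟩ ⟨⟨_, m5⟩, rfl⟩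
  have hcard : Nat.card U5 = 5 ^ 6 := by rw [GU.card_eq, Nat.card_zmod]
  have hb : Function.Bijective f := by
    rw [Nat.bijective_iff_surjective_and_card]
    exact ⟨hs, le_antisymm (hcard ▸ hle) (Nat.card_le_card_of_surjective f hs)⟩
  let e : V ≃* U5 := MulEquiv.ofBijective f hb
  have key : ∀ (u : U5) (g : G) (hm : (u, g) ∈ V), (MonoidHom.snd U5 G) (e.symm u : V) = g := by
    intro u g hm
    have h2 : e.symm u = ⟨(u, g), hm⟩ := e.symm_apply_eq.2 rfl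
    rw [h2]
    rfl
  refine ⟨((MonoidHom.snd U5 G).comp V.subtype).comp e.symm.toMonoidHom, ?_, ?_, ?_, ?_, ?_, ?_⟩
  · exact key _ _ m0
  · exact key _ _ m1
  · exact key _ _ m2
  · exact key _ _ m3
  · exact key _ _ m4
  · exact key _ _ m5

end Cfsg.Agent.H650.Q5
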